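import Cfsg.Agent.Clifford.CoprimeDegree
import Mathlib.GroupTheory.FiniteAbelian.Duality

/-!
# The classes of size prime to `p` of a coprime extension by an abelian `p`-group
-/

set_option autoImplicit false
set_option linter.unusedSectionVars false

namespace CfsgLib.CoprimeClasses

open Cfsg

theorem card_hom_complex {A : Type*} [Group A] [Finite A] [hA : IsMulCommutative A] :
    Nat.card (A →* ℂ) = Nat.card A := by
  letI : CommGroup A := { (inferInstance : Group A) with mul_comm := hA.1.1 }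
  haveI : NeZero ((Monoid.exponent A : ℕ) : ℂ) :=
    ⟨Nat.cast_ne_zero.2 (Monoid.exponent_ne_zero.2 Monoid.ExponentExists.of_finite)⟩
  rw [← CommGroup.card_monoidHom_of_hasEnoughRootsOfUnity A ℂ]
  exact Nat.card_congr
    { toFun := fun f => f.toHomUnits
      invFun := fun f => (Units.coeHom ℂ).comp f
      left_inv := fun f => MonoidHom.ext fun a => rfl
      right_inv := fun f => MonoidHom.ext fun a => Units.ext rfl }

variable {G : Type*} [Group G] [Finite G] {N H : Subgroup G} [hN : N.Normal] {p : ℕ} [hp : Fact p.Prime] {k : ℕ}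

/-- The classes of size prime to `p` are represented by fixed points times the complement. -/
theorem card_classes_prime_to [hHab : IsMulCommutative H] (hH : Subgroup.IsComplement' N H)
    (hcop : (Nat.card N).Coprime (Nat.card H)) (hHcard : Nat.card H = p ^ k) (hk : k ≠ 0) :
    Nat.card {C : ConjClasses G // ¬ p ∣ Nat.card C.carrier} =
      Nat.card (ConjClasses (N ⊓ Subgroup.centralizer (H : Set G) : Subgroup G)) * Nat.card H := by
  classical
  haveI : Fintype G := Fintype.ofFinite G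
  set C₀ : Subgroup G := N ⊓ Subgroup.centralizer (H : Set G) with hC₀
  have hcomm : ∀ a ∈ H, ∀ b ∈ H, a * b = b * a := fun a ha b hb =>
    congrArg Subtype.val (hHab.1.1 (⟨a, ha⟩ : H) ⟨b, hb⟩)
  have hdecomp : ∀ g : G, ∃ n ∈ N, ∃ u ∈ H, g = n * u := fun g => by
    have hg : g ∈ (↑(N ⊔ H) : Set G) := by rw [hH.sup_eq_top]; trivial
    rw [Subgroup.normal_mul] at hg
    obtain ⟨n, hn, u, hu, rfl⟩ := hg
    exact ⟨n, hn, u, hu, rfl⟩
  have huniq : ∀ {n n' u u' : G}, n ∈ N → n' ∈ N → u ∈ H → u' ∈ H → n * u = n' * u' → n = n' ∧ u = u' := by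
    intro n n' u u' hn hn' hu hu' he
    have h : n'⁻¹ * n = u' * u⁻¹ :=
      calc n'⁻¹ * n = n'⁻¹ * (n * u) * u⁻¹ := by group
        _ = n'⁻¹ * (n' * u') * u⁻¹ := by rw [he]
        _ = u' * u⁻¹ := by group
    have h1 : n'⁻¹ * n ∈ N ⊓ H :=
      Subgroup.mem_inf.2 ⟨N.mul_mem (N.inv_mem hn') hn, h ▸ H.mul_mem hu' (H.inv_mem hu)⟩
    rw [disjoint_iff.1 hH.disjoint, Subgroup.mem_bot, inv_mul_eq_one] at h1
    refine ⟨h1.symm, ?_⟩
    subst h1
    exact mul_left_cancel he
  have hHp : IsPGroup p H := IsPGroup.of_card hHcard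
  have hNndvd : ¬ p ∣ Nat.card N := fun h => by
    have := Nat.Coprime.eq_one_of_dvd (Nat.Coprime.coprime_dvd_left h hcop) (hHcard ▸ dvd_pow_self p hk)
    exact hp.out.ne_one this
  have hidx : ¬ p ∣ H.index := by rw [hH.index_eq_card]; exact hNndvd
  set S : Sylow p G := hHp.toSylow hidx with hS
  have hScoe : (S : Subgroup G) = H := rfl
  have hsize : ∀ g : G, ¬ p ∣ Nat.card (ConjClasses.mk g).carrier ↔
      ∃ x : G, H ≤ Subgroup.centralizer ({x * g * x⁻¹} : Set G) := by
    intro g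
    have hcar : Nat.card (ConjClasses.mk g).carrier = (Subgroup.centralizer ({g} : Set G)).index := by
      rw [← CfsgLib.CharBasics.card_conjClass]
      refine Nat.card_congr (Equiv.subtypeEquivRight fun z => ?_)
      rw [ConjClasses.mem_carrier_iff_mk_eq, ConjClasses.mk_eq_mk_iff_isConj]
      exact ⟨IsConj.symm, IsConj.symm⟩
    rw [hcar]
    constructor
    · intro hnd
      obtain ⟨Q⟩ : Nonempty (Sylow p (Subgroup.centralizer ({g} : Set G))) := inferInstance
      set Q' := (Q : Subgroup (Subgroup.centralizer ({g} : Set G))).map (Subgroup.centralizer ({g} : Set G)).subtype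
      have hQ'p : IsPGroup p Q' := Q.2.map _
      obtain ⟨P, hP⟩ := hQ'p.exists_le_sylow
      obtain ⟨x, hx⟩ := MulAction.exists_smul_eq G P S
      refine ⟨x, fun u hu => ?_⟩
      have hcard : Nat.card Q' = Nat.card P := by
        rw [Subgroup.card_map_of_injective (Subgroup.subtype_injective _), Q.card_eq_multiplicity,
          P.card_eq_multiplicity]
        congr 1
        have h := congrArg (fun m => m.factorization p) (Subgroup.card_mul_index (Subgroup.centralizer ({g} : Set G)))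
        simp only [Nat.factorization_mul Nat.card_pos.ne' Subgroup.index_ne_zero_of_finite, Finsupp.add_apply,
          Nat.factorization_eq_zero_of_not_dvd hnd, add_zero] at h
        exact h
      have hPQ : Q' = (P : Subgroup G) := Subgroup.eq_of_le_of_card_ge hP hcard.ge
      rw [← hScoe, ← hx, Sylow.coe_subgroup_smul, Subgroup.mem_pointwise_smul_iff_inv_smul_mem] at hu
      rw [← hPQ] at hu
      obtain ⟨c, -, hc⟩ := hu
      have hc' : (c : G) = x⁻¹ * u * x := by simpa [MulAut.smul_def] using hc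
      have hcg : (c : G) * g = g * c := Subgroup.mem_centralizer_singleton_iff.1 c.2
      rw [Subgroup.mem_centralizer_singleton_iff]
      calc u * (x * g * x⁻¹) = x * ((x⁻¹ * u * x) * g) * x⁻¹ := by group
        _ = x * (g * (x⁻¹ * u * x)) * x⁻¹ := by rw [← hc', hcg]
        _ = _ := by group
    · rintro ⟨x, hx⟩ hd
      have h1 : (Subgroup.centralizer ({g} : Set G)).index = (Subgroup.centralizer ({x * g * x⁻¹} : Set G)).index := by
        have hc : IsConj g (x * g * x⁻¹) := isConj_iff.2 ⟨x, rfl⟩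
        rw [← CfsgLib.CharBasics.card_conjClass, ← CfsgLib.CharBasics.card_conjClass]
        exact Nat.card_congr (Equiv.subtypeEquivRight fun z => ⟨hc.symm.trans, hc.trans⟩)
      exact hidx (hd.trans (h1 ▸ Subgroup.index_dvd_of_le hx))
  let Φ : ConjClasses C₀ × H → ConjClasses G := fun x => ConjClasses.mk (((x.1.out : C₀) : G) * (x.2 : G))
  have hΦ : ∀ x, ¬ p ∣ Nat.card (Φ x).carrier := fun x => (hsize _).2 ⟨1, fun u hu => by
    rw [one_mul, inv_one, mul_one, Subgroup.mem_centralizer_singleton_iff,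
      ← mul_assoc, Subgroup.mem_centralizer_iff.1 (x.1.out : C₀).2.2 u hu, mul_assoc,
      hcomm u hu _ x.2.2, ← mul_assoc]⟩
  symm
  rw [← Nat.card_prod]
  refine Nat.card_eq_of_bijective (fun x => ⟨Φ x, hΦ x⟩) ⟨?_, ?_⟩
  · rintro ⟨X, u⟩ ⟨Y, v⟩ he
    obtain ⟨g, hg⟩ := isConj_iff.1 (ConjClasses.mk_eq_mk_iff_isConj.1 (congrArg Subtype.val he))
    obtain ⟨c, hc⟩ : ∃ c : C₀, X.out = c := ⟨_, rfl⟩
    obtain ⟨d, hd⟩ : ∃ d : C₀, Y.out = d := ⟨_, rfl⟩
    rw [hc, hd] at hg
    obtain ⟨n, hn, h, hh, rfl⟩ := hdecomp g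
    have hcu : ∀ z : C₀, ∀ w ∈ H, w * (z : G) = (z : G) * w := fun z w hw =>
      Subgroup.mem_centralizer_iff.1 z.2.2 w hw
    have hg' : n * ((c : G) * u) * n⁻¹ = (d : G) * v := by
      rw [← hg]
      calc n * ((c : G) * u) * n⁻¹ = n * ((c : G) * (u * h)) * h⁻¹ * n⁻¹ := by group
        _ = n * ((c : G) * (h * u)) * h⁻¹ * n⁻¹ := by rw [hcomm u u.2 h hh]
        _ = n * ((c : G) * h * u) * h⁻¹ * n⁻¹ := by rw [← mul_assoc (c : G)]
        _ = n * (h * (c : G) * u) * h⁻¹ * n⁻¹ := by rw [hcu c h hh]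
        _ = _ := by group
    have hmem : n * (c : G) * ((u : G) * n⁻¹ * (u : G)⁻¹) ∈ N :=
      mul_mem (mul_mem hn c.2.1) (hN.conj_mem _ (inv_mem hn) _)
    obtain ⟨hcd, huv⟩ := huniq hmem d.2.1 u.2 v.2 (by
      rw [← hg']; group)
    have huv' : u = v := Subtype.ext huv
    subst huv'
    -- the parts of coprime order
    obtain ⟨a, ha⟩ : ∃ a : ℕ, ∀ z : C₀, ∀ w ∈ H, ((z : G) * w) ^ a = z := by
      obtain ⟨a, ha1, ha2⟩ := Nat.chineseRemainder hcop 1 0
      refine ⟨a, fun z w hw => ?_⟩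
      have hz : (z : G) ^ a = z := by
        have h1 : orderOf (z : G) ∣ Nat.card N := by
          have := orderOf_dvd_natCard (⟨(z : G), z.2.1⟩ : N)
          rwa [Subgroup.orderOf_mk] at this
        rw [(pow_eq_pow_iff_modEq.2 (Nat.ModEq.of_dvd h1 ha1) : (z : G) ^ a = (z : G) ^ 1), pow_one]
      have hw' : w ^ a = 1 := by
        have h1 : orderOf w ∣ Nat.card H := by
          have := orderOf_dvd_natCard (⟨w, hw⟩ : H)
          rwa [Subgroup.orderOf_mk] at this
        rw [(pow_eq_pow_iff_modEq.2 (Nat.ModEq.of_dvd h1 ha2) : w ^ a = w ^ 0), pow_zero]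
      rw [(show Commute (z : G) w from (hcu z w hw).symm).mul_pow, hz, hw', mul_one]
    have hcd' : n * (c : G) * n⁻¹ = d := by
      have := congrArg (fun y : G => y ^ a) hg'
      simp only [conj_pow, ha c u u.2, ha d u u.2] at this
      exact this
    -- move the conjugating element into the centralizer
    obtain ⟨m, hm, hmH⟩ : ∃ m : G, m * (c : G) = (c : G) * m ∧ ∀ w ∈ H, (n * m) * w * (n * m)⁻¹ ∈ H := by
      set C := Subgroup.centralizer ({(c : G)} : Set G) with hC
      have hHC : H ≤ C := fun w hw => Subgroup.mem_centralizer_singleton_iff.2 (hcu c w hw)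
      have hHn : ∀ w ∈ H, n⁻¹ * w * n ∈ C := fun w hw => by
        rw [Subgroup.mem_centralizer_singleton_iff]
        have := hcu d w hw
        rw [← hcd'] at this
        calc n⁻¹ * w * n * (c : G) = n⁻¹ * (w * (n * (c : G) * n⁻¹)) * n := by group
          _ = _ := by rw [this]; group
      have hidxC : ¬ p ∣ (H.subgroupOf C).index := fun h => hidx (by
        rw [← Subgroup.relIndex_mul_index hHC]; exact Dvd.dvd.mul_right h _)
      set P₁ : Sylow p C := (hHp.of_equiv (Subgroup.subgroupOfEquivOfLe hHC).symm).toSylow hidxC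
      set H' : Subgroup G := H.map (MulAut.conj n⁻¹).toMonoidHom
      have hH'C : H' ≤ C := by
        rintro _ ⟨w, hw, rfl⟩
        simpa using hHn w hw
      have hH'p : IsPGroup p H' := hHp.map _
      obtain ⟨P₂, hP₂⟩ := (hH'p.of_equiv (Subgroup.subgroupOfEquivOfLe hH'C).symm).exists_le_sylow
      obtain ⟨m, hm⟩ := MulAction.exists_smul_eq C P₁ P₂
      have hcardeq : Nat.card (H'.subgroupOf C) = Nat.card P₂ := by
        rw [Sylow.card_eq_multiplicity P₂, ← Sylow.card_eq_multiplicity P₁,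
          Nat.card_congr (Subgroup.subgroupOfEquivOfLe hH'C).toEquiv,
          Subgroup.card_map_of_injective (MulAut.conj n⁻¹).injective]
        exact (Nat.card_congr (Subgroup.subgroupOfEquivOfLe hHC).toEquiv).symm
      have heq : H'.subgroupOf C = (P₂ : Subgroup C) := Subgroup.eq_of_le_of_card_ge hP₂ hcardeq.ge
      refine ⟨m, Subgroup.mem_centralizer_singleton_iff.1 m.2, fun w hw => ?_⟩
      have h1 : m * ⟨w, hHC hw⟩ * m⁻¹ ∈ (P₂ : Subgroup C) := by
        rw [← hm, Sylow.coe_subgroup_smul]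
        exact ⟨⟨w, hHC hw⟩, hw, rfl⟩
      rw [← heq] at h1
      obtain ⟨w', hw', he'⟩ := h1
      rw [show n * (m : G) * w * (n * (m : G))⁻¹ = n * ((m : G) * w * (m : G)⁻¹) * n⁻¹ by group]
      have he'' : n⁻¹ * w' * n = (m : G) * w * (m : G)⁻¹ := by simpa using he'
      rw [← he'']
      simpa [mul_assoc] using hw'
    obtain ⟨n', hn', h', hh', he'⟩ := hdecomp (n * m)
    have hn'H : ∀ w ∈ H, n' * w * n'⁻¹ ∈ H := fun w hw => by
      have := hmH w hw
      rw [he'] at this
      rwa [show n' * h' * w * (n' * h')⁻¹ = n' * (h' * w * h'⁻¹) * n'⁻¹ by group, hcomm h' hh' w hw,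
        mul_inv_cancel_right] at this
    have hn'C : n' ∈ C₀ := ⟨hn', Subgroup.mem_centralizer_iff.2 fun w hw => by
      have h1 : n' * w * n'⁻¹ * w⁻¹ ∈ N ⊓ H := Subgroup.mem_inf.2 ⟨by
        rw [show n' * w * n'⁻¹ * w⁻¹ = n' * (w * n'⁻¹ * w⁻¹) by group]
        exact N.mul_mem hn' (hN.conj_mem _ (N.inv_mem hn') _), H.mul_mem (hn'H w hw) (H.inv_mem hw)⟩
      rw [disjoint_iff.1 hH.disjoint, Subgroup.mem_bot, mul_inv_eq_one, mul_inv_eq_iff_eq_mul] at h1
      exact h1.symm⟩
    refine Prod.ext ?_ rfl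
    show X = Y
    rw [← (Quotient.out_eq X), ← (Quotient.out_eq Y), hc, hd]
    refine ConjClasses.mk_eq_mk_iff_isConj.2 (isConj_iff.2 ⟨⟨n', hn'C⟩, Subtype.ext ?_⟩)
    show n' * (c : G) * n'⁻¹ = d
    rw [← hcd', show n' = n * m * h'⁻¹ by rw [he']; group]
    calc n * m * h'⁻¹ * (c : G) * (n * m * h'⁻¹)⁻¹ = n * m * (h'⁻¹ * (c : G) * h') * m⁻¹ * n⁻¹ := by group
      _ = n * (m * (c : G)) * m⁻¹ * n⁻¹ := by
        rw [show h'⁻¹ * (c : G) * h' = (c : G) by rw [mul_assoc, ← hcu c h' hh']; group]; group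
      _ = _ := by rw [hm]; group
  · rintro ⟨X, hX⟩
    obtain ⟨g, rfl⟩ := ConjClasses.exists_rep X
    obtain ⟨x, hx⟩ := (hsize g).1 hX
    obtain ⟨n, hn, u, hu, hg⟩ := hdecomp (x * g * x⁻¹)
    have hnC : n ∈ C₀ := ⟨hn, Subgroup.mem_centralizer_iff.2 fun w hw => by
      have := Subgroup.mem_centralizer_singleton_iff.1 (hx hw)
      rw [hg, mul_assoc n, hcomm u hu w hw, ← mul_assoc, ← mul_assoc] at this
      exact mul_right_cancel this⟩
    obtain ⟨t, ht⟩ := isConj_iff.1 (ConjClasses.mk_eq_mk_iff_isConj.1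
      (Quotient.out_eq (ConjClasses.mk (⟨n, hnC⟩ : C₀))))
    refine ⟨(ConjClasses.mk ⟨n, hnC⟩, ⟨u, hu⟩), Subtype.ext ?_⟩
    refine ConjClasses.mk_eq_mk_iff_isConj.2 (IsConj.trans (isConj_iff.2 ⟨(t : G), ?_⟩)
      (isConj_iff.2 ⟨x, hg⟩).symm)
    have ht' := congrArg Subtype.val ht
    simp only [Subgroup.coe_mul, Subgroup.coe_inv] at ht'
    have htu : u * (t : G) = (t : G) * u := Subgroup.mem_centralizer_iff.1 t.2.2 u hu
    conv_rhs => rw [← ht']
    calc (t : G) * (((ConjClasses.mk (⟨n, hnC⟩ : C₀)).out : G) * u) * (t : G)⁻¹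
        = (t : G) * ((ConjClasses.mk (⟨n, hnC⟩ : C₀)).out : G) * (u * (t : G)⁻¹) := by group
      _ = (t : G) * ((ConjClasses.mk (⟨n, hnC⟩ : C₀)).out : G) * ((t : G)⁻¹ * u) := by
        rw [show u * (t : G)⁻¹ = (t : G)⁻¹ * u by
          rw [eq_inv_mul_iff_mul_eq, ← mul_assoc, ← htu, mul_inv_cancel_right]]
      _ = _ := by group

end CfsgLib.CoprimeClasses
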